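import Groth.Agent.AssLib.FlatFibre
import Groth.Agent.AssLib.OpenRestrict
import Groth.Agent.KFlatLib.Scheme.Pullback
import Groth.Agent.S2069
import Groth.Prelude.Def_CurvBase
import Mathlib.AlgebraicGeometry.Fiber

/-!
Relatively associated points under base change (EGA IV 3.3, 4.2).
-/

set_option autoImplicit false
set_option linter.style.haveILetI false
set_option backward.isDefEq.respectTransparency false
set_option backward.isDefEq.respectTransparency.types false

universe u

open CategoryTheory Limits AlgebraicGeometry IsLocalRing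
open scoped TensorProduct

namespace Groth.Agent.RelAss16

open Groth.Agent

/-- Associated maximal ideal of a flat base change of a local ring. -/
theorem mem_ass_tensor_iff {A B M : Type u} [CommRing A] [IsLocalRing A] [IsNoetherianRing A] [CommRing B]
    [IsLocalRing B] [IsNoetherianRing B] [Algebra A B] [Module.Flat A B] [IsLocalHom (algebraMap A B)]
    [AddCommGroup M] [Module A M] :
    maximalIdeal B ∈ associatedPrimes B (B ⊗[A] M) ↔ maximalIdeal A ∈ associatedPrimes A M ∧
      maximalIdeal B ∈ associatedPrimes B (B ⧸ (maximalIdeal A).map (algebraMap A B)) := by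
  have hq : ∀ p : Ideal A, p.map (algebraMap A B) • (⊤ : Submodule B B) = p.map (algebraMap A B) := fun p => by
    rw [smul_eq_mul, Ideal.mul_top]
  rw [S2069.result (R := A) (S := B) (M := M) (N := B)]
  simp only [Set.mem_iUnion, exists_prop]
  constructor
  · rintro ⟨p, hp, hB⟩
    have hp' : p.IsPrime := hp.1
    obtain rfl : p = maximalIdeal A := by
      refine le_antisymm (le_maximalIdeal hp'.ne_top) fun a ha => ?_
      by_contra hap
      obtain ⟨hB', c, hc⟩ := isAssociatedPrime_iff.1 hB
      obtain ⟨c, rfl⟩ := Submodule.Quotient.mk_surjective _ c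
      have hab : algebraMap A B a ∈ maximalIdeal B := fun hu => ha (isUnit_of_map_unit _ a hu)
      rw [hc, Submodule.mem_colon_singleton, Submodule.mem_bot, ← Submodule.Quotient.mk_smul,
        Submodule.Quotient.mk_eq_zero, hq] at hab
      -- `a` is regular on `B / pB`
      haveI := hp'
      have hreg : IsSMulRegular (A ⧸ p) a := fun u v huv => by
        obtain ⟨u, rfl⟩ := Ideal.Quotient.mk_surjective u
        obtain ⟨v, rfl⟩ := Ideal.Quotient.mk_surjective v
        have h1 : Ideal.Quotient.mk p (a * u) = Ideal.Quotient.mk p (a * v) := huv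
        rw [Ideal.Quotient.eq, ← mul_sub] at h1
        exact Ideal.Quotient.eq.2 ((hp'.mem_or_mem h1).resolve_left hap)
      have hinj := Module.Flat.lTensor_preserves_injective_linearMap (M := B)
        (LinearMap.lsmul A (A ⧸ p) a) hreg
      let E := TensorProduct.tensorQuotEquivQuotSMul B p
      have h0 : c ⊗ₜ[A] (Ideal.Quotient.mk p (1 : A)) = 0 := by
        apply hinj
        rw [map_zero, LinearMap.lTensor_tmul, LinearMap.lsmul_apply]
        have e1 : a • Ideal.Quotient.mk p (1 : A) = Ideal.Quotient.mk p a := by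
          rw [Algebra.smul_def, ← Ideal.Quotient.mk_algebraMap, ← map_mul]; simp
        rw [e1]
        refine E.injective ?_
        rw [map_zero]
        erw [TensorProduct.tensorQuotEquivQuotSMul_tmul_mk p c a]
        rw [Submodule.Quotient.mk_eq_zero, Ideal.smul_top_eq_map, Submodule.restrictScalars_mem,
          Algebra.smul_def]
        exact hab
      have h1 := congrArg E h0
      rw [map_zero] at h1
      erw [TensorProduct.tensorQuotEquivQuotSMul_tmul_mk p c 1] at h1
      rw [Submodule.Quotient.mk_eq_zero, Ideal.smul_top_eq_map, Submodule.restrictScalars_mem, one_smul] at h1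
      refine hB'.ne_top ?_
      rw [hc, Ideal.eq_top_iff_one, Submodule.mem_colon_singleton, Submodule.mem_bot, one_smul,
        Submodule.Quotient.mk_eq_zero, hq]
      exact h1
    refine ⟨hp, ?_⟩
    rwa [← LinearEquiv.AssociatedPrimes.eq (Submodule.quotEquivOfEq _ _ (hq _))]
  · rintro ⟨hA, hB⟩
    refine ⟨_, hA, ?_⟩
    rwa [LinearEquiv.AssociatedPrimes.eq (Submodule.quotEquivOfEq _ _ (hq _))]

section Field

variable {k K : Type u} [Field k] [Field K] [Algebra k K] {Z : Scheme.{u}}
  (q : Z ⟶ Spec (CommRingCat.of k)) [LocallyOfFiniteType q]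

/-- Associated points under extension of the ground field. -/
theorem isAssPoint_fst_iff (G : Z.Modules) (v : ↥(pullback q (Spec.map (CommRingCat.ofHom (algebraMap k K))))) :
    Curv2.IsAssPoint ((Scheme.Modules.pullback
        (pullback.fst q (Spec.map (CommRingCat.ofHom (algebraMap k K))))).obj G) v ↔
      Curv2.IsAssPoint G (pullback.fst q (Spec.map (CommRingCat.ofHom (algebraMap k K))) v) ∧
        ∀ v', v' ⤳ v → pullback.fst q (Spec.map (CommRingCat.ofHom (algebraMap k K))) v' =
          pullback.fst q (Spec.map (CommRingCat.ofHom (algebraMap k K))) v → v' = v := by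
  let τ := Spec.map (CommRingCat.ofHom (algebraMap k K))
  let π : pullback q τ ⟶ Z := pullback.fst q τ
  show Curv2.IsAssPoint ((Scheme.Modules.pullback π).obj G) v ↔
    Curv2.IsAssPoint G (π v) ∧ ∀ v', v' ⤳ v → π v' = π v → v' = v
  haveI : Flat τ := AssLib.flat_over_field (k := k) τ
  haveI : Flat π := MorphismProperty.pullback_fst q τ ‹_›
  haveI : IsLocallyNoetherian Z := LocallyOfFiniteType.isLocallyNoetherian q
  haveI : LocallyOfFiniteType (pullback.snd q τ) := MorphismProperty.pullback_snd q τ ‹_›
  haveI : IsLocallyNoetherian (pullback q τ) := LocallyOfFiniteType.isLocallyNoetherian (pullback.snd q τ)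
  letI := (π.stalkMap v).hom.toAlgebra
  haveI : IsLocalHom (algebraMap (Z.presheaf.stalk (π v)) ((pullback q τ).presheaf.stalk v)) :=
    inferInstanceAs (IsLocalHom (π.stalkMap v).hom)
  haveI : Module.Flat (Z.presheaf.stalk (π v)) ((pullback q τ).presheaf.stalk v) := Flat.stalkMap π v
  let e : ((Scheme.Modules.pullback π).obj G).presheaf.stalk v ≃ₗ[(pullback q τ).presheaf.stalk v]
      ((pullback q τ).presheaf.stalk v ⊗[Z.presheaf.stalk (π v)] G.presheaf.stalk (π v)) :=
    ((KFlatLib.stalkPullbackIso π v).app G).toLinearEquiv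
  have h1 : Curv2.IsAssPoint ((Scheme.Modules.pullback π).obj G) v ↔
      maximalIdeal ((pullback q τ).presheaf.stalk v) ∈ associatedPrimes ((pullback q τ).presheaf.stalk v)
        ((pullback q τ).presheaf.stalk v ⊗[Z.presheaf.stalk (π v)] G.presheaf.stalk (π v)) := by
    rw [← LinearEquiv.AssociatedPrimes.eq e]
    rfl
  rw [h1, mem_ass_tensor_iff]
  refine and_congr Iff.rfl ⟨fun hB => ?_, fun hgen => ?_⟩
  · intro v' hv' hπ
    suffices key : ∀ (z : Z) (w : ↥(π.fiber z)), π.fiberι z w = v → v' ∈ Set.range (π.fiberι z) → v' = v from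
      key _ (π.asFiber v) (π.fiberι_asFiber v) (by rw [Scheme.Hom.range_fiberι]; exact hπ)
    rintro z w hw ⟨w', rfl⟩
    subst hw
    have hd : AssLib.DepthZero ((π.fiber z).presheaf.stalk w) := by
      obtain ⟨hp, c, hc⟩ := isAssociatedPrime_iff.1 hB
      obtain ⟨c, rfl⟩ := Ideal.Quotient.mk_surjective c
      have hker : RingHom.ker ((π.fiberι z).stalkMap w).hom =
          (maximalIdeal (Z.presheaf.stalk (π (π.fiberι z w)))).map
            (algebraMap (Z.presheaf.stalk (π (π.fiberι z w))) ((pullback q τ).presheaf.stalk (π.fiberι z w))) :=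
        FlatDvr.ker_stalkMap_fiberι π w
      refine ⟨(π.fiberι z).stalkMap w c, fun h0 => hp.ne_top ?_, fun r hr => ?_⟩
      · rw [hc, Ideal.eq_top_iff_one, Submodule.mem_colon_singleton, Submodule.mem_bot, one_smul,
          Ideal.Quotient.eq_zero_iff_mem, ← hker]
        exact h0
      · obtain ⟨r₀, rfl⟩ := (π.fiberι z).stalkMap_surjective w r
        have hr₀ : r₀ ∈ maximalIdeal _ := fun hu => hr (hu.map _)
        rw [hc, Submodule.mem_colon_singleton, Submodule.mem_bot] at hr₀
        have hr₁ : Ideal.Quotient.mk _ (r₀ * c) = 0 := hr₀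
        rw [Ideal.Quotient.eq_zero_iff_mem, ← hker, RingHom.mem_ker, map_mul] at hr₁
        exact hr₁
    exact congrArg (π.fiberι z) (AssLib.eq_of_depthZero_fibre_bc q z w hd w'
      ((π.fiberι z).isEmbedding.isInducing.specializes_iff.1 hv'))
  · have hne : (maximalIdeal (Z.presheaf.stalk (π v))).map
        (algebraMap (Z.presheaf.stalk (π v)) ((pullback q τ).presheaf.stalk v)) ≠ ⊤ :=
      ne_top_of_le_ne_top (maximalIdeal.isMaximal _).ne_top
        (Ideal.map_le_iff_le_comap.2 fun r hr hu => hr (isUnit_of_map_unit _ r hu))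
    haveI := Ideal.Quotient.nontrivial_iff.2 hne
    obtain ⟨P, hP⟩ := associatedPrimes.nonempty ((pullback q τ).presheaf.stalk v)
      ((pullback q τ).presheaf.stalk v ⧸ (maximalIdeal (Z.presheaf.stalk (π v))).map
        (algebraMap (Z.presheaf.stalk (π v)) ((pullback q τ).presheaf.stalk v)))
    have hle : (maximalIdeal (Z.presheaf.stalk (π v))).map
        (algebraMap (Z.presheaf.stalk (π v)) ((pullback q τ).presheaf.stalk v)) ≤ P := by
      obtain ⟨-, c, hc⟩ := isAssociatedPrime_iff.1 hP
      intro r hr
      obtain ⟨c, rfl⟩ := Ideal.Quotient.mk_surjective c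
      rw [hc, Submodule.mem_colon_singleton, Submodule.mem_bot]
      show Ideal.Quotient.mk _ (r * c) = 0
      rw [Ideal.Quotient.eq_zero_iff_mem]
      exact Ideal.mul_mem_right _ _ hr
    suffices P = maximalIdeal _ from this ▸ hP
    have hc : Spec.map (π.stalkMap v) (⟨P, hP.1⟩ : PrimeSpectrum _) =
        IsLocalRing.closedPoint (Z.presheaf.stalk (π v)) := by
      apply PrimeSpectrum.ext
      exact le_antisymm (le_maximalIdeal (Ideal.IsPrime.ne_top (PrimeSpectrum.isPrime _)))
        (Ideal.map_le_iff_le_comap.1 hle)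
    have h2 : π ((pullback q τ).fromSpecStalk v (⟨P, hP.1⟩ : PrimeSpectrum _)) = π v := by
      rw [← Scheme.Hom.comp_apply, ← Scheme.SpecMap_stalkMap_fromSpecStalk, Scheme.Hom.comp_apply, hc]
      exact Scheme.fromSpecStalk_closedPoint
    have h3 : (pullback q τ).fromSpecStalk v (⟨P, hP.1⟩ : PrimeSpectrum _) ⤳ v := by
      have h : (pullback q τ).fromSpecStalk v (⟨P, hP.1⟩ : PrimeSpectrum _) ∈
          Set.range ((pullback q τ).fromSpecStalk v) := ⟨_, rfl⟩
      rwa [Scheme.range_fromSpecStalk] at h
    exact congrArg PrimeSpectrum.asIdeal ((((pullback q τ).fromSpecStalk v).isEmbedding.injective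
      ((hgen _ h3 h2).trans Scheme.fromSpecStalk_closedPoint.symm)))

end Field

/-- Pullback along an open immersion. -/
theorem isAssPoint_pullback_iff {X Y : Scheme.{u}} (j : X ⟶ Y) [IsOpenImmersion j] (M : Y.Modules) (z : X) :
    Curv2.IsAssPoint ((Scheme.Modules.pullback j).obj M) z ↔ Curv2.IsAssPoint M (j z) :=
  AssLib.mem_ass_pullback_iff j M z

theorem isAssPoint_congr {X : Scheme.{u}} {M N : X.Modules} (φ : M ≅ N) (x : X) :
    Curv2.IsAssPoint M x ↔ Curv2.IsAssPoint N x := by
  let L := CycLib.stalkLin φ.hom x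
  have hb : Function.Bijective L := (ConcreteCategory.bijective_of_isIso
    ((TopCat.Presheaf.stalkFunctor Ab.{u} x).map ((Scheme.Modules.toPresheaf X).map φ.hom)))
  exact (LinearEquiv.ofBijective L hb).isAssociatedPrime_iff

variable {X S S' : Scheme.{u}} (f : X ⟶ S) [LocallyOfFiniteType f] (g : S' ⟶ S) (F : X.Modules)

theorem isAssPoint_fibre_congr {s : S} (v : ↥(f.fiber s)) (x : X) (hv : f.fiberι s v = x) :
    Curv2.IsAssPoint ((Scheme.Modules.pullback (f.fiberι s)).obj F) v ↔
      Curv2.IsAssPoint ((Scheme.Modules.pullback (f.fiberι (f x))).obj F) (f.asFiber x) := by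
  obtain rfl : f x = s := hv ▸ FlatDvr.fiberι_apply_eq f v
  obtain rfl : v = f.asFiber x :=
    (f.fiberι (f x)).isEmbedding.injective (hv.trans (f.fiberι_asFiber x).symm)
  exact Iff.rfl

/-- The relative statement. -/
theorem isAssPoint_fibre_iff (s' : S') (w : ↥((pullback.snd f g).fiber s')) :
    Curv2.IsAssPoint ((Scheme.Modules.pullback ((pullback.snd f g).fiberι s')).obj
        ((Scheme.Modules.pullback (pullback.fst f g)).obj F)) w ↔
      Curv2.IsAssPoint ((Scheme.Modules.pullback
          (f.fiberι (f (pullback.fst f g ((pullback.snd f g).fiberι s' w))))).obj F)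
          (f.asFiber (pullback.fst f g ((pullback.snd f g).fiberι s' w))) ∧
        ∀ x'' : ↥(pullback f g), pullback.snd f g x'' = s' →
          pullback.fst f g x'' = pullback.fst f g ((pullback.snd f g).fiberι s' w) →
          x'' ⤳ (pullback.snd f g).fiberι s' w → x'' = (pullback.snd f g).fiberι s' w := by
  let ι' := (pullback.snd f g).fiberι s'
  let Z' := (pullback.snd f g).fiber s'
  let q := f.fiberToSpecResidueField (g s')
  haveI : LocallyOfFiniteType q := MorphismProperty.pullback_snd _ _ ‹_›
  letI : Algebra (S.residueField (g s')) (S'.residueField s') := (g.residueFieldMap s').hom.toAlgebra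
  let π : Z' ⟶ f.fiber (g s') :=
    pullback.map _ _ _ _ (pullback.fst f g) (Spec.map (g.residueFieldMap s')) g
      (IsPullback.of_hasPullback f g).w.symm (by simp)
  have hπι : π ≫ f.fiberι (g s') = ι' ≫ pullback.fst f g := pullback.lift_fst _ _ _
  have hsq : IsPullback π ((pullback.snd f g).fiberToSpecResidueField s') q
      (Spec.map (CommRingCat.ofHom (algebraMap (S.residueField (g s')) (S'.residueField s')))) :=
    isPullback_fiberToSpecResidueField_of_isPullback (IsPullback.of_hasPullback f g) s'
  let e := hsq.isoPullback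
  have he : e.hom ≫ pullback.fst _ _ = π := hsq.isoPullback_hom_fst
  let G := (Scheme.Modules.pullback (f.fiberι (g s'))).obj F
  let φ : (Scheme.Modules.pullback ι').obj ((Scheme.Modules.pullback (pullback.fst f g)).obj F) ≅
      (Scheme.Modules.pullback e.hom).obj ((Scheme.Modules.pullback (pullback.fst _ _)).obj G) :=
    (Scheme.Modules.pullbackComp _ _).app F ≪≫
      (Scheme.Modules.pullbackCongr (hπι.symm.trans (by rw [← he, Category.assoc]))).app F ≪≫
      ((Scheme.Modules.pullbackComp e.hom (pullback.fst _ _ ≫ f.fiberι (g s'))).app F).symm ≪≫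
      (Scheme.Modules.pullback e.hom).mapIso ((Scheme.Modules.pullbackComp _ _).app F).symm
  rw [isAssPoint_congr φ, isAssPoint_pullback_iff]
  erw [isAssPoint_fst_iff (k := S.residueField (g s')) (K := S'.residueField s') q G (e.hom w)]
  have hw : f.fiberι (g s') (π w) = pullback.fst f g (ι' w) := by
    rw [← Scheme.Hom.comp_apply, hπι]; rfl
  have hπw : pullback.fst q _ (e.hom w) = π w := by rw [← he]; rfl
  rw [hπw, isAssPoint_fibre_congr f F (π w) _ hw]
  refine and_congr Iff.rfl ⟨fun h x'' hs hx hsp => ?_, fun h v' hv' hπ' => ?_⟩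
  · obtain ⟨w', rfl⟩ : x'' ∈ Set.range ι' := by rw [Scheme.Hom.range_fiberι]; exact hs
    have h2 := (ι'.isEmbedding.isInducing.specializes_iff.1 hsp)
    refine congrArg ι' (e.hom.homeomorph.injective (h (e.hom w') (h2.map e.hom.continuous) ?_))
    rw [← Scheme.Hom.comp_apply, he]
    refine (f.fiberι (g s')).isEmbedding.injective ?_
    rw [hw, ← Scheme.Hom.comp_apply, hπι]
    exact hx
  · obtain ⟨w', rfl⟩ := e.hom.homeomorph.surjective v'
    have h2 : w' ⤳ w := e.hom.homeomorph.isInducing.specializes_iff.1 hv'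
    refine congrArg e.hom (ι'.isEmbedding.injective (h (ι' w') ?_ ?_ (h2.map ι'.continuous)))
    · exact FlatDvr.fiberι_apply_eq _ w'
    · show pullback.fst f g (ι' w') = _
      rw [← hw, ← Scheme.Hom.comp_apply, ← hπι, Scheme.Hom.comp_apply]
      refine congrArg _ ?_
      have h4 : π w' = pullback.fst q _ (e.hom w') := by rw [← he]; rfl
      exact h4.trans hπ'

end Groth.Agent.RelAss16
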